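import Groth.Agent.Lib.SpreadSub19.Basic
import Groth.Agent.S3036
import Groth.Agent.S9189
import Groth.Prelude.Def_Red2

/-!
# Monomorphisms of groups are generically closed immersions
-/

set_option autoImplicit false
set_option linter.style.haveILetI false
set_option backward.isDefEq.respectTransparency false
set_option backward.isDefEq.respectTransparency.types false
universe u

open CategoryTheory Limits MonoidalCategory CartesianMonoidalCategory MonObj AlgebraicGeometry Opposite

noncomputable section

namespace Groth.Agent.GenNorm20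

open SpreadSub19 LimH13

/-- The square of a base changed morphism. -/
theorem isPullback_map {S T : Scheme.{u}} (b : T ⟶ S) {X Y : Over S} (f : X ⟶ Y) :
    IsPullback (pullback.fst X.hom b) ((Over.pullback b).map f).left f.left (pullback.fst Y.hom b) := by
  refine (IsPullback.of_right ?_ (pullback.lift_fst _ _ _) (IsPullback.of_hasPullback Y.hom b).flip).flip
  show IsPullback (pullback.lift _ _ _ ≫ pullback.snd _ _) _ _ (f.left ≫ Y.hom)
  rw [pullback.lift_snd, Over.w f]
  exact (IsPullback.of_hasPullback X.hom b).flip

/-- Being a closed immersion after base change passes to a further base change. -/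
theorem isClosedImmersion_map_comp {S T T' : Scheme.{u}} (a : T ⟶ S) (b : T' ⟶ T) {c : T' ⟶ S} (h : b ≫ a = c)
    {X Y : Over S} (f : X ⟶ Y) (hf : IsClosedImmersion ((Over.pullback a).map f).left) :
    IsClosedImmersion ((Over.pullback c).map f).left := by
  have h1 : IsClosedImmersion ((Over.pullback b).map ((Over.pullback a).map f)).left :=
    MorphismProperty.of_isPullback (P := @IsClosedImmersion) (isPullback_map b _) hf
  have e := congrArg CommaMorphism.left (bcComp_natural a b h f)
  simp only [Over.comp_left] at e
  haveI := h1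
  rw [← MorphismProperty.cancel_left_of_respectsIso @IsClosedImmersion (bcComp a b h X).hom.left, ← e]
  infer_instance

variable {S : Scheme.{u}}

set_option maxHeartbeats 1000000 in
/-- A quasi-compact monomorphism of group schemes is a closed immersion over a non-empty open. -/
theorem exists_open_isClosedImmersion [IsIntegral S] (G H : Over S) [GrpObj G] [GrpObj H]
    [LocallyOfFinitePresentation G.hom] [QuasiCompact G.hom] [QuasiSeparated G.hom]
    [LocallyOfFinitePresentation H.hom] [QuasiCompact H.hom] [QuasiSeparated H.hom]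
    (i : H ⟶ G) [IsMonHom i] [Mono i] [QuasiCompact i.left] :
    ∃ U : S.Opens, genericPoint S ∈ U ∧ IsClosedImmersion ((Over.pullback U.ι).map i).left := by
  classical
  let η₀ := S.fromSpecStalk (genericPoint S)
  let iη := (Over.pullback η₀).map i
  haveI : Mono iη := inferInstanceAs (Mono ((Over.pullback η₀).map i))
  haveI : QuasiCompact iη.left :=
    MorphismProperty.of_isPullback (P := @QuasiCompact) (isPullback_map η₀ i) ‹_›
  haveI : LocallyOfFiniteType (Red.bc η₀ G).hom := MorphismProperty.pullback_snd _ _ inferInstance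
  haveI : LocallyOfFiniteType (Red.bc η₀ H).hom := MorphismProperty.pullback_snd _ _ inferInstance
  haveI hiη : IsClosedImmersion iη.left :=
    Groth.Agent.S3036.result (S.functionField : Type u) (Red.bc η₀ H) (Red.bc η₀ G) iη
  obtain ⟨V, hV, hηV, -⟩ := exists_isAffineOpen_mem_and_subset (X := S) (x := genericPoint S) (U := ⊤) trivial
  let s : S := genericPoint S
  let Va : S.affineOpens := ⟨V, hV⟩
  haveI := Nhd.isDirected s Va
  haveI : Nonempty (Nhd.Idx s Va) := ⟨⟨1, by rw [Scheme.basicOpen_of_isUnit _ isUnit_one]; exact hηV⟩⟩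
  haveI : IsFiltered (Nhd.Idx s Va) := isFiltered_of_directed_le_nonempty _
  let D := Nhd.diag s Va
  let cn := Nhd.cone s Va
  have hcn : IsLimit cn := Nhd.isLimit s Va hηV
  haveI hAffD : ∀ j, IsAffine (D.obj j) := fun j => hV.basicOpen _
  haveI : ∀ (j k : (Nhd.Idx s Va)ᵒᵖ) (f : j ⟶ k), IsAffineHom (D.map f) := fun j k f => Nhd.isAffineHom_map s Va f
  let t : D ⟶ (Functor.const _).obj S :=
    { app := fun j => (S.basicOpen j.unop.1).ι
      naturality := fun j k f => by simp [D, Nhd.diag] }
  have hq : ∀ j, cn.π.app j ≫ t.app j = η₀ := fun j => Scheme.Opens.fromSpecStalkOfMem_ι _ _ j.unop.2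
  let j₀ : (Nhd.Idx s Va)ᵒᵖ := op (Classical.arbitrary _)
  let G₀ : Over (D.obj j₀) := Red.bc (t.app j₀) G
  let H₀ : Over (D.obj j₀) := Red.bc (t.app j₀) H
  let i₀ : H₀ ⟶ G₀ := (Over.pullback (t.app j₀)).map i
  haveI : IsAffine (D.obj j₀) := hAffD j₀
  haveI : QuasiCompact G₀.hom := MorphismProperty.pullback_snd (P := @QuasiCompact) G.hom (t.app j₀) inferInstance
  haveI : QuasiSeparated G₀.hom := MorphismProperty.pullback_snd (P := @QuasiSeparated) G.hom (t.app j₀) inferInstance
  haveI : QuasiCompact H₀.hom := MorphismProperty.pullback_snd (P := @QuasiCompact) H.hom (t.app j₀) inferInstance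
  haveI : QuasiSeparated H₀.hom := MorphismProperty.pullback_snd (P := @QuasiSeparated) H.hom (t.app j₀) inferInstance
  haveI : LocallyOfFiniteType H₀.hom :=
    MorphismProperty.pullback_snd (P := @LocallyOfFiniteType) H.hom (t.app j₀) inferInstance
  haveI : CompactSpace G₀.left := QuasiCompact.compactSpace_of_compactSpace G₀.hom
  haveI : CompactSpace H₀.left := QuasiCompact.compactSpace_of_compactSpace H₀.hom
  haveI : QuasiSeparatedSpace G₀.left := quasiSeparatedSpace_of_quasiSeparated G₀.hom
  haveI : QuasiSeparatedSpace H₀.left := quasiSeparatedSpace_of_quasiSeparated H₀.hom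
  haveI : LocallyOfFiniteType i₀.left := by
    haveI : LocallyOfFiniteType (i₀.left ≫ G₀.hom) := by rw [Over.w i₀]; infer_instance
    exact locallyOfFiniteType_of_comp i₀.left G₀.hom
  haveI : IsClosedImmersion ((Over.pullback (cn.π.app j₀)).map i₀).left := by
    have e := congrArg CommaMorphism.left (bcComp_natural (t.app j₀) (cn.π.app j₀) (hq j₀) i)
    simp only [Over.comp_left] at e
    rw [← MorphismProperty.cancel_right_of_respectsIso @IsClosedImmersion _
      (bcComp (t.app j₀) (cn.π.app j₀) (hq j₀) G).hom.left, e]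
    infer_instance
  obtain ⟨k, φ, Xi, Yi, fi, gi, pY, pX, hY, hX, hfi⟩ := Groth.Agent.S9189.result D cn hcn j₀ i₀.left G₀.hom
    ((Over.pullback (cn.π.app j₀)).map i₀).left (Red.bc (cn.π.app j₀) G₀).hom (pullback.fst _ _) (pullback.fst _ _)
    (IsPullback.of_hasPullback G₀.hom (cn.π.app j₀)) (isPullback_map _ i₀)
  refine ⟨S.basicOpen k.unop.1, k.unop.2, ?_⟩
  have hι : D.map φ ≫ t.app j₀ = t.app k := by simpa using t.naturality φ
  have hfi' : IsClosedImmersion ((Over.pullback (D.map φ)).map i₀).left := by
    let e := (IsPullback.of_hasPullback G₀.hom (D.map φ)).flip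
    let ε : (Red.bc (D.map φ) G₀).left ⟶ Yi := hY.lift (pullback.fst _ _) (pullback.snd _ _) pullback.condition
    have hsq := isPullback_map (D.map φ) i₀
    let q : (Red.bc (D.map φ) H₀).left ⟶ Xi := hX.lift (pullback.fst _ _)
      (((Over.pullback (D.map φ)).map i₀).left ≫ ε) (by
        rw [Category.assoc, show ε ≫ pY = pullback.fst _ _ from hY.lift_fst _ _ _, hsq.w])
    have hsq' : IsPullback q ((Over.pullback (D.map φ)).map i₀).left fi ε := by
      refine IsPullback.of_right ?_ (hX.lift_snd _ _ _) hX
      rw [show q ≫ pX = pullback.fst _ _ from hX.lift_fst _ _ _,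
        show ε ≫ pY = pullback.fst _ _ from hY.lift_fst _ _ _]
      exact hsq
    exact MorphismProperty.of_isPullback (P := @IsClosedImmersion) hsq' hfi
  have e := congrArg CommaMorphism.left (bcComp_natural (t.app j₀) (D.map φ) hι i)
  simp only [Over.comp_left] at e
  haveI := hfi'
  show IsClosedImmersion ((Over.pullback (t.app k)).map i).left
  rw [← MorphismProperty.cancel_left_of_respectsIso @IsClosedImmersion (bcComp (t.app j₀) (D.map φ) hι H).hom.left, ← e]
  infer_instance

end Groth.Agent.GenNorm20
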