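import Groth.Agent.Lib.MTRigid29.GenericTransporter
import Groth.Agent.Lib.GenNorm20.Closed
import Groth.Agent.Lib.MTRigid29.CentralizerNormalizer

/-!
# Centralizers and normalizers are generically representable
-/

set_option autoImplicit false
set_option linter.style.haveILetI false
set_option backward.isDefEq.respectTransparency.types false
set_option backward.isDefEq.respectTransparency false
set_option maxSynthPendingDepth 3
set_option synthInstance.maxHeartbeats 400000

universe u

open CategoryTheory Limits MonoidalCategory CartesianMonoidalCategory MonObj AlgebraicGeometry Opposite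
open scoped TensorProduct
open Groth.Agent.MTRigid29

noncomputable section

namespace Groth.Agent.GenNorm20

set_option maxHeartbeats 800000 in
/-- A scheme of finite type is covered by a free affine one over a non-empty open. -/
theorem exists_open_free_cover {S : Scheme.{u}} [IsIntegral S] (G Y : Over S) [GrpObj G] [QuasiCompact G.hom]
    [LocallyOfFiniteType Y.hom] [QuasiCompact Y.hom] [QuasiSeparated Y.hom] (W : S.Opens) (hW : genericPoint S ∈ W) :
    ∃ U : S.Opens, genericPoint S ∈ U ∧ U ≤ W ∧ IsSeparated (Red.bc U.ι G).hom ∧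
      ∃ (Y' : Over (U : Scheme.{u})) (y' : Y' ⟶ Red.bc U.ι Y),
        HasContentLoc (snd Y' (Red.bc U.ι G)).left ∧ Flat y'.left ∧ Surjective y'.left ∧ QuasiCompact y'.left := by
  classical
  obtain ⟨U₀, hU₀, hgU₀, -⟩ := exists_isAffineOpen_mem_and_subset (X := S) (x := genericPoint S) (U := ⊤) trivial
  haveI : Nonempty (U₀ : S.Opens) := ⟨⟨_, hgU₀⟩⟩
  haveI : IsAffine (U₀ : Scheme.{u}) := hU₀
  let R := Γ(S, U₀)
  let Y₀ := pullback Y.hom U₀.ι
  haveI : CompactSpace Y₀ := QuasiCompact.compactSpace_of_compactSpace (pullback.snd Y.hom U₀.ι)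
  let 𝒰 := Y₀.affineCover.finiteSubcover
  haveI : ∀ k, IsAffine (𝒰.X k) := fun k => inferInstance
  let Z := ∐ 𝒰.X
  haveI : IsAffine Z := inferInstance
  let π : Z ⟶ Y₀ := Sigma.desc 𝒰.f
  haveI : Flat π := IsZariskiLocalAtSource.sigmaDesc fun k => inferInstance
  haveI : LocallyOfFiniteType π := IsZariskiLocalAtSource.sigmaDesc fun k => inferInstance
  have hπs : Function.Surjective π := fun y => by
    obtain ⟨z, hz⟩ := 𝒰.covers y
    exact ⟨Sigma.ι 𝒰.X (𝒰.idx y) z, by rw [← Scheme.Hom.comp_apply, Sigma.ι_desc]; exact hz⟩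
  let B := Γ(Z, ⊤)
  let z₀ : Spec B ⟶ Spec R := Z.isoSpec.inv ≫ π ≫ pullback.snd Y.hom U₀.ι ≫ hU₀.isoSpec.hom
  letI : Algebra R B := (Spec.preimage z₀).hom.toAlgebra
  have hz₀ : Spec.map (CommRingCat.ofHom (algebraMap R B)) = z₀ := by
    show Spec.map (Spec.preimage z₀) = z₀
    rw [Spec.map_preimage]
  haveI : Algebra.FiniteType R B :=
    RingHom.finiteType_algebraMap.1 ((HasRingHomProperty.Spec_iff (P := @LocallyOfFiniteType)).1 (show LocallyOfFiniteType (Spec.map (CommRingCat.ofHom (algebraMap R B))) by rw [hz₀]; infer_instance))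
  obtain ⟨c, hc, hfree⟩ := FlatH4.exists_free_and_finitePresentation (R := R) (S := B)
  obtain ⟨U₁, hgU₁, hU₁U₀, hsep⟩ := exists_open_separated G U₀ hU₀ ⟨_, hgU₀⟩
  have hgc : genericPoint S ∈ S.basicOpen c := by
    have hne : ((S.basicOpen c : S.Opens) : Set S).Nonempty := by
      rw [Set.nonempty_iff_ne_empty]
      intro h
      exact hc (basicOpen_eq_bot_iff c |>.1 (TopologicalSpace.Opens.ext h))
    exact ((genericPoint_spec S).mem_open_set_iff (S.basicOpen c).isOpen).2 (by simpa using hne)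
  obtain ⟨r, hrle, hgr⟩ := hU₀.exists_basicOpen_le (V := W ⊓ U₁ ⊓ S.basicOpen c) ⟨_, ⟨hW, hgU₁⟩, hgc⟩ hgU₀
  let U : S.Opens := S.basicOpen r
  have hU : IsAffineOpen U := hU₀.basicOpen r
  haveI : IsSeparated (Red.bc U.ι G).hom := hsep U (hrle.trans (inf_le_left.trans inf_le_right))
  let R' := Γ(S, U)
  let res : R ⟶ R' := S.presheaf.map (homOfLE (S.basicOpen_le r)).op
  letI : Algebra R R' := res.hom.toAlgebra
  have hres : Spec.map res ≫ hU₀.fromSpec = hU.fromSpec := IsAffineOpen.map_fromSpec _ hU _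
  have hcR' : IsUnit (algebraMap R R' c) := by
    have hle : U ≤ S.basicOpen c := hrle.trans inf_le_right
    rw [show algebraMap R R' c = S.presheaf.map (homOfLE hle).op (S.presheaf.map (homOfLE (S.basicOpen_le c)).op c) from
      congrArg (fun k : R ⟶ R' => k c) (S.presheaf.map_comp (homOfLE (S.basicOpen_le c)).op (homOfLE hle).op :)]
    exact (RingedSpace.isUnit_res_basicOpen S.toLocallyRingedSpace.toRingedSpace c).map (S.presheaf.map (homOfLE hle).op).hom
  let A := R' ⊗[R] B
  haveI : Module.Free R' A := (hfree R' hcR').1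
  let e : Spec (CommRingCat.of R') ⟶ (U : Scheme.{u}) := hU.isoSpec.inv
  have he : e ≫ U.ι = Spec.map res ≫ hU₀.fromSpec := by rw [hres]; exact hU.isoSpec_inv_ι
  let zA : Spec (CommRingCat.of A) ⟶ Y₀ :=
    Spec.map (CommRingCat.ofHom (Algebra.TensorProduct.includeRight : B →ₐ[R] A).toRingHom) ≫ Z.isoSpec.inv ≫ π
  have hzA : zA ≫ pullback.snd Y.hom U₀.ι ≫ U₀.ι = Spec.map (CommRingCat.ofHom (algebraMap R' A)) ≫ e ≫ U.ι := by
    rw [he]
    simp only [zA, Category.assoc]
    rw [show pullback.snd Y.hom U₀.ι ≫ U₀.ι = (pullback.snd Y.hom U₀.ι ≫ hU₀.isoSpec.hom) ≫ hU₀.fromSpec by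
        rw [Category.assoc, hU₀.isoSpec_hom_fromSpec], Category.assoc, show Z.isoSpec.inv ≫ π ≫ pullback.snd Y.hom U₀.ι ≫ hU₀.isoSpec.hom ≫ hU₀.fromSpec =
      z₀ ≫ hU₀.fromSpec by simp [z₀], ← hz₀, ← Category.assoc, ← Category.assoc, ← Spec.map_comp, ← Spec.map_comp]
    congr 2
    ext b
    show (1 : R') ⊗ₜ[R] (algebraMap R B b) = algebraMap R R' b ⊗ₜ[R] (1 : B)
    rw [Algebra.algebraMap_eq_smul_one, Algebra.algebraMap_eq_smul_one, TensorProduct.tmul_smul,
      TensorProduct.smul_tmul']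
  let Y' : Over (U : Scheme.{u}) := Over.mk (Spec.map (CommRingCat.ofHom (algebraMap R' A)) ≫ e)
  let y' : Y' ⟶ Red.bc U.ι Y := Over.homMk
    (pullback.lift (zA ≫ pullback.fst Y.hom U₀.ι) (Spec.map (CommRingCat.ofHom (algebraMap R' A)) ≫ e) (by
      rw [Category.assoc, pullback.condition, hzA, Category.assoc])) (pullback.lift_snd _ _ _)
  have hy'fst : y'.left ≫ pullback.fst Y.hom U.ι = zA ≫ pullback.fst Y.hom U₀.ι := pullback.lift_fst _ _ _
  haveI : IsOpenImmersion (Spec.map (CommRingCat.ofHom (algebraMap R R'))) := by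
    haveI : IsOpenImmersion (Spec.map res ≫ hU₀.fromSpec) := by rw [hres]; exact inferInstanceAs (IsOpenImmersion hU.fromSpec)
    exact IsOpenImmersion.of_comp (Spec.map res) hU₀.fromSpec
  have hsq : IsPullback (Spec.map (CommRingCat.ofHom (Algebra.TensorProduct.includeRight : B →ₐ[R] A).toRingHom))
      (Spec.map (CommRingCat.ofHom (algebraMap R' A))) (Spec.map (CommRingCat.ofHom (algebraMap R B)))
      (Spec.map (CommRingCat.ofHom (algebraMap R R'))) :=
    (IsPullback.of_iso (IsPullback.of_hasPullback (Spec.map (CommRingCat.ofHom (algebraMap R R')))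
        (Spec.map (CommRingCat.ofHom (algebraMap R B))))
      (pullbackSpecIso R R' B) (Iso.refl _) (Iso.refl _) (Iso.refl _)
      (by rw [Iso.refl_hom, Category.comp_id]; exact (pullbackSpecIso_hom_fst R R' B).symm)
      (by rw [Iso.refl_hom, Category.comp_id]; exact (pullbackSpecIso_hom_snd R R' B).symm)
      (by simp) (by simp)).flip
  haveI : IsOpenImmersion (Spec.map (CommRingCat.ofHom (Algebra.TensorProduct.includeRight : B →ₐ[R] A).toRingHom)) :=
    MorphismProperty.of_isPullback hsq.flip inferInstance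
  haveI : Flat y'.left := by
    refine MorphismProperty.of_postcomp (W := @Flat) (W' := @IsOpenImmersion) y'.left (pullback.fst Y.hom U.ι)
      (inferInstanceAs (IsOpenImmersion (pullback.fst Y.hom U.ι))) ?_
    rw [hy'fst]
    infer_instance
  haveI : Surjective y'.left := ⟨fun p => by
    have hpU : G.hom = G.hom := rfl
    let y := pullback.fst Y.hom U.ι p
    have hy : Y.hom y = U.ι (pullback.snd Y.hom U.ι p) := by
      rw [← Scheme.Hom.comp_apply, pullback.condition, Scheme.Hom.comp_apply]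
    obtain ⟨y₀, hy₀, hy₀'⟩ := Scheme.Pullback.exists_preimage_pullback (f := Y.hom) (g := U₀.ι) y
      ⟨Y.hom y, by rw [hy]; exact S.basicOpen_le r (pullback.snd Y.hom U.ι p).2⟩ rfl
    obtain ⟨z, hz⟩ := hπs y₀
    let zs : Spec B := Z.isoSpec.hom z
    have hzs : Z.isoSpec.inv zs = z := by
      show Z.isoSpec.inv (Z.isoSpec.hom z) = z
      rw [← Scheme.Hom.comp_apply, Iso.hom_inv_id]; rfl
    have hmem : zs ∈ Set.range (Spec.map (CommRingCat.ofHom (Algebra.TensorProduct.includeRight : B →ₐ[R] A).toRingHom)) := by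
      have h1 : Spec.map (CommRingCat.ofHom (algebraMap R B)) zs ∈ Set.range (Spec.map (CommRingCat.ofHom (algebraMap R R'))) := by
        refine ⟨hU.isoSpec.hom (pullback.snd Y.hom U.ι p), hU₀.fromSpec.isOpenEmbedding.injective ?_⟩
        have e1 : hU.isoSpec.hom ≫ Spec.map (CommRingCat.ofHom (algebraMap R R')) ≫ hU₀.fromSpec = U.ι := by
          rw [show CommRingCat.ofHom (algebraMap R R') = res from rfl, hres, hU.isoSpec_hom_fromSpec]
        have e2 : Z.isoSpec.hom ≫ Spec.map (CommRingCat.ofHom (algebraMap R B)) ≫ hU₀.fromSpec =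
            π ≫ pullback.snd Y.hom U₀.ι ≫ U₀.ι := by
          rw [hz₀]; simp [z₀]
        have e3 : U₀.ι (pullback.snd Y.hom U₀.ι y₀) = Y.hom y :=
          (congrArg (fun k : Y₀ ⟶ S => k y₀) pullback.condition).symm.trans (congrArg Y.hom hy₀)
        exact (congrArg (fun k : (U : Scheme.{u}) ⟶ S => k (pullback.snd Y.hom U.ι p)) e1).trans
          (hy.symm.trans (e3.symm.trans ((congrArg (fun t => U₀.ι (pullback.snd Y.hom U₀.ι t)) hz).symm.trans
            (congrArg (fun k : Z ⟶ S => k z) e2).symm)))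
      obtain ⟨q, hq⟩ := h1
      obtain ⟨w, hw, -⟩ := Scheme.Pullback.exists_preimage_pullback zs q hq.symm
      exact ⟨hsq.isoPullback.inv w, by rw [← Scheme.Hom.comp_apply, IsPullback.isoPullback_inv_fst]; exact hw⟩
    obtain ⟨w, hw⟩ := hmem
    refine ⟨w, (pullback.fst Y.hom U.ι).isOpenEmbedding.injective ?_⟩
    refine (congrArg (fun k : Spec (CommRingCat.of A) ⟶ Y.left => k w) hy'fst).trans ?_
    show pullback.fst Y.hom U₀.ι (π (Z.isoSpec.inv (Spec.map _ w))) = y
    exact ((congrArg (fun t => pullback.fst Y.hom U₀.ι (π (Z.isoSpec.inv t))) hw).trans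
      ((congrArg (fun t => pullback.fst Y.hom U₀.ι (π t)) hzs).trans
        ((congrArg (fun t => pullback.fst Y.hom U₀.ι t) hz).trans hy₀)))⟩
  haveI : QuasiCompact y'.left := by
    haveI : QuasiSeparated (Red.bc U.ι Y).hom := MorphismProperty.pullback_snd _ _ inferInstance
    haveI : QuasiCompact (y'.left ≫ (Red.bc U.ι Y).hom) := by
      rw [Over.w y']
      show QuasiCompact (Spec.map (CommRingCat.ofHom (algebraMap R' A)) ≫ e)
      infer_instance
    exact QuasiCompact.of_comp y'.left (Red.bc U.ι Y).hom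
  exact ⟨U, hgr, hrle.trans (inf_le_left.trans inf_le_left), inferInstance, Y', y', hasContentLoc_snd_of_free e _,
    inferInstance, inferInstance, inferInstance⟩

/-- Factoring through a monomorphism descends along flat quasi-compact surjections. -/
theorem exists_factor_of_cover {S : Scheme.{u}} {X X' H G : Over S} (i : H ⟶ G) [Mono i.left] (p : X' ⟶ X)
    [Flat p.left] [Surjective p.left] [QuasiCompact p.left] (f : X ⟶ G) (a : X' ⟶ H) (h : p ≫ f = a ≫ i) :
    ∃ b : X ⟶ H, b ≫ i = f := by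
  haveI : EffectiveEpi p.left := effectiveEpi_of_cover _ fun V hV =>
    ⟨p.left ⁻¹ᵁ V, p.left.isCompact_preimage hV.isCompact, Set.image_preimage_eq _ p.left.surjective⟩
  have h' : p.left ≫ f.left = a.left ≫ i.left := congrArg CommaMorphism.left h
  let b := EffectiveEpi.desc p.left a.left fun g₁ g₂ hg => by
    rw [← cancel_mono i.left, Category.assoc, Category.assoc, ← h', reassoc_of% hg]
  have hb : p.left ≫ b = a.left := EffectiveEpi.fac _ _ _
  have hbi : b ≫ i.left = f.left := by rw [← cancel_epi p.left, reassoc_of% hb, h']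
  exact ⟨Over.homMk b (by rw [← Over.w i, ← Category.assoc, hbi, Over.w f]), Over.OverMorphism.ext hbi⟩

/-- The cover of a point of the target. -/
theorem exists_cover_point {S : Scheme.{u}} {Y' Y X : Over S} (y' : Y' ⟶ Y) [Flat y'.left] [Surjective y'.left]
    [QuasiCompact y'.left] (h : X ⟶ Y) :
    ∃ (P : Over S) (p : P ⟶ X) (q : P ⟶ Y'), p ≫ h = q ≫ y' ∧ Flat p.left ∧ Surjective p.left ∧
      QuasiCompact p.left ∧ Epi p := by
  let P : Over S := Over.mk (pullback.fst h.left y'.left ≫ X.hom)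
  let p : P ⟶ X := Over.homMk (pullback.fst h.left y'.left) rfl
  let q : P ⟶ Y' := Over.homMk (pullback.snd h.left y'.left) (by
    show pullback.snd h.left y'.left ≫ Y'.hom = pullback.fst h.left y'.left ≫ X.hom
    rw [← Over.w y', ← pullback.condition_assoc, Over.w h])
  haveI : Flat p.left := MorphismProperty.pullback_fst _ _ inferInstance
  haveI : Surjective p.left := MorphismProperty.pullback_fst _ _ inferInstance
  haveI : QuasiCompact p.left := MorphismProperty.pullback_fst _ _ inferInstance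
  haveI : Epi p.left := Flat.epi_of_flat_of_surjective p.left
  exact ⟨P, p, q, Over.OverMorphism.ext pullback.condition, inferInstance, inferInstance, inferInstance,
    Over.epi_of_epi_left p⟩

variable {S : Scheme.{u}} {G H Y : Over S} [GrpObj G] [GrpObj H]

/-- The centralizer is a closed subgroup. -/
theorem exists_centralizer_of_cover [LocallyOfFinitePresentation G.hom] [IsSeparated G.hom] [QuasiCompact G.hom]
    (i : H ⟶ G) (y' : Y ⟶ H) (hY : HasContentLoc (snd Y G).left)
    [Flat y'.left] [Surjective y'.left] [QuasiCompact y'.left] :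
    ∃ (C : Over S) (_ : GrpObj C) (c : C ⟶ G), Red.IsCentralizerOf i c ∧ IsClosedImmersion c.left ∧
      LocallyOfFinitePresentation C.hom ∧ QuasiCompact C.hom := by
  obtain ⟨C, c, hc, hfp, hC⟩ := exists_transporter_eq hY (y' ≫ i) (y' ≫ i)
  haveI := hc
  haveI : Mono c := Over.mono_of_mono_left c
  have hiff : ∀ (X : Over S) (g : X ⟶ G), (∃ z : X ⟶ C, z ≫ c = g) ↔
      ∀ (X' : Over S) (x : X' ⟶ X) (h : X' ⟶ H), (x ≫ g) * (h ≫ i) = (h ≫ i) * (x ≫ g) := by
    intro X g
    refine (hC X g).trans ⟨fun hz X' x h => ?_, fun hz X' x a => ?_⟩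
    · obtain ⟨P, p, q, hpq, -, -, -, hp⟩ := exists_cover_point y' h
      haveI := hp
      have h1 := mul_inv_eq_iff_eq_mul.1 (hz P (p ≫ x) q)
      rw [← Category.assoc q, ← hpq, Category.assoc, Category.assoc, ← MonObj.comp_mul, ← MonObj.comp_mul] at h1
      exact (cancel_epi p).1 h1
    · rw [← Category.assoc]
      exact mul_inv_eq_iff_eq_mul.2 (hz X' x (a ≫ y'))
  obtain ⟨hgrp, hhom⟩ := exists_grpObj_of_subgroup c
    (fun X a b => (hiff X _).2 fun X' x h => by
      have ha := (hiff X _).1 ⟨a, rfl⟩ X' x h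
      have hb := (hiff X _).1 ⟨b, rfl⟩ X' x h
      rw [MonObj.comp_mul, _root_.mul_assoc, hb, ← _root_.mul_assoc, ha, _root_.mul_assoc])
    ((hiff _ _).2 fun X' x h => by rw [MonObj.comp_one, _root_.one_mul, _root_.mul_one])
    (fun X a => (hiff X _).2 fun X' x h => by
      have ha : Commute (x ≫ a ≫ c) (h ≫ i) := (hiff X _).1 ⟨a, rfl⟩ X' x h
      rw [GrpObj.comp_inv]
      exact ha.inv_left)
  letI := hgrp
  refine ⟨C, inferInstance, c, ⟨hhom, inferInstance, hiff⟩, hc, hfp, ?_⟩
  rw [← Over.w c]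
  infer_instance

set_option maxHeartbeats 800000 in
/-- The normalizer is a closed subgroup. -/
theorem exists_normalizer_of_cover [LocallyOfFinitePresentation G.hom] [IsSeparated G.hom] [QuasiCompact G.hom]
    [LocallyOfFinitePresentation H.hom]
    (i : H ⟶ G) [IsMonHom i] [IsClosedImmersion i.left] (y' : Y ⟶ H) (hY : HasContentLoc (snd Y G).left)
    [Flat y'.left] [Surjective y'.left] [QuasiCompact y'.left] :
    ∃ (N : Over S) (_ : GrpObj N) (n : N ⟶ G), Red.IsNormalizerOf i n ∧ IsClosedImmersion n.left ∧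
      LocallyOfFinitePresentation N.hom ∧ QuasiCompact N.hom := by
  obtain ⟨T, t, ht, hfp, hT⟩ := exists_transporter_into hY (y' ≫ i) i
  haveI := ht
  haveI := hfp
  have hT' : ∀ (X : Over S) (g : X ⟶ G), (∃ z : X ⟶ T, z ≫ t = g) ↔
      ∀ (X' : Over S) (x : X' ⟶ X) (h : X' ⟶ H), ∃ h' : X' ⟶ H, (x ≫ g) * (h ≫ i) * (x ≫ g)⁻¹ = h' ≫ i := by
    intro X g
    refine (hT X g).trans ⟨fun hz X' x h => ?_, fun hz X' x a => ?_⟩
    · obtain ⟨P, p, q, hpq, hp1, hp2, hp3, -⟩ := exists_cover_point y' h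
      haveI := hp1
      haveI := hp2
      haveI := hp3
      obtain ⟨a', ha'⟩ := hz P (p ≫ x) q
      rw [← Category.assoc q, ← hpq, Category.assoc, Category.assoc, ← GrpObj.comp_inv, ← MonObj.comp_mul,
        ← MonObj.comp_mul] at ha'
      obtain ⟨b, hb⟩ := exists_factor_of_cover i p _ a' ha'
      exact ⟨b, hb.symm⟩
    · rw [← Category.assoc]
      exact hz X' x (a ≫ y')
  haveI : Mono t := Over.mono_of_mono_left t
  let t' : T ⟶ G := t⁻¹
  haveI : IsClosedImmersion t'.left := by
    haveI : IsIso ((𝟙 G : G ⟶ G)⁻¹).left := by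
      have hh : (𝟙 G : G ⟶ G)⁻¹ ≫ (𝟙 G : G ⟶ G)⁻¹ = 𝟙 G := by
        rw [GrpObj.comp_inv, Category.comp_id, inv_inv]
      exact ⟨((𝟙 G : G ⟶ G)⁻¹).left, by rw [← Over.comp_left, hh]; rfl, by rw [← Over.comp_left, hh]; rfl⟩
    rw [show t' = t ≫ (𝟙 G : G ⟶ G)⁻¹ by rw [GrpObj.comp_inv, Category.comp_id], Over.comp_left]
    infer_instance
  haveI : LocallyOfFinitePresentation t'.left := by
    haveI : LocallyOfFinitePresentation (t'.left ≫ G.hom) := by rw [Over.w t']; infer_instance
    exact SchBasic.locallyOfFinitePresentation_of_comp t'.left G.hom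
  let N : Over S := Over.mk (pullback.fst t.left t'.left ≫ T.hom)
  let p₁ : N ⟶ T := Over.homMk (pullback.fst t.left t'.left) rfl
  let n : N ⟶ G := p₁ ≫ t
  haveI : IsClosedImmersion p₁.left := inferInstanceAs (IsClosedImmersion (pullback.fst t.left t'.left))
  haveI hn : IsClosedImmersion n.left := inferInstanceAs (IsClosedImmersion (p₁.left ≫ t.left))
  haveI : Mono n := Over.mono_of_mono_left n
  have hiff : ∀ (X : Over S) (g : X ⟶ G), (∃ z : X ⟶ N, z ≫ n = g) ↔
      ∀ (X' : Over S) (x : X' ⟶ X) (h : X' ⟶ H),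
        (∃ h' : X' ⟶ H, (x ≫ g) * (h ≫ i) * (x ≫ g)⁻¹ = h' ≫ i) ∧
        (∃ h' : X' ⟶ H, (x ≫ g)⁻¹ * (h ≫ i) * (x ≫ g) = h' ≫ i) := by
    intro X g
    have h0 : (∃ z : X ⟶ N, z ≫ n = g) ↔ (∃ z : X ⟶ T, z ≫ t = g) ∧ ∃ z : X ⟶ T, z ≫ t = g⁻¹ := by
      constructor
      · rintro ⟨z, rfl⟩
        let p₂ : N ⟶ T := Over.homMk (pullback.snd t.left t'.left) (by
          show pullback.snd t.left t'.left ≫ T.hom = pullback.fst t.left t'.left ≫ T.hom
          exact (congrArg (pullback.snd t.left t'.left ≫ ·) (Over.w t')).symm.trans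
            ((pullback.condition_assoc G.hom).symm.trans (congrArg (pullback.fst t.left t'.left ≫ ·) (Over.w t))))
        have hp : p₂ ≫ t' = n := Over.OverMorphism.ext pullback.condition.symm
        refine ⟨⟨z ≫ p₁, Category.assoc _ _ _⟩, z ≫ p₂, ?_⟩
        rw [← hp, GrpObj.comp_inv, ← GrpObj.comp_inv z, Category.assoc, GrpObj.comp_inv, GrpObj.comp_inv, inv_inv]
      · rintro ⟨⟨a, ha⟩, b, hb⟩
        have hb' : b ≫ t' = g := by rw [GrpObj.comp_inv, hb, inv_inv]
        have hw : a.left ≫ t.left = b.left ≫ t'.left := by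
          rw [← Over.comp_left, ← Over.comp_left, ha, hb']
        refine ⟨Over.homMk (pullback.lift a.left b.left hw) ?_, Over.OverMorphism.ext ?_⟩
        · show pullback.lift a.left b.left hw ≫ pullback.fst _ _ ≫ T.hom = X.hom
          rw [pullback.lift_fst_assoc, Over.w a]
        · show pullback.lift a.left b.left hw ≫ pullback.fst _ _ ≫ t.left = g.left
          rw [pullback.lift_fst_assoc, ← Over.comp_left, ha]
    rw [h0, hT', hT']
    simp only [GrpObj.comp_inv, inv_inv]
    exact ⟨fun h X' x a => ⟨h.1 X' x a, h.2 X' x a⟩, fun h => ⟨fun X' x a => (h X' x a).1, fun X' x a => (h X' x a).2⟩⟩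
  obtain ⟨hgrp, hhom⟩ := exists_grpObj_of_subgroup n
    (fun X a b => (hiff X _).2 fun X' x h => by
      have ha := (hiff X _).1 ⟨a, rfl⟩ X' x
      have hb := (hiff X _).1 ⟨b, rfl⟩ X' x
      rw [MonObj.comp_mul]
      refine ⟨?_, ?_⟩
      · obtain ⟨h', hh'⟩ := (hb h).1
        obtain ⟨h'', hh''⟩ := (ha h').1
        exact ⟨h'', by rw [← hh'', ← hh']; group⟩
      · obtain ⟨h', hh'⟩ := (ha h).2
        obtain ⟨h'', hh''⟩ := (hb h').2
        exact ⟨h'', by rw [← hh'', ← hh']; group⟩)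
    ((hiff _ _).2 fun X' x h => by
      simp only [MonObj.comp_one, _root_.one_mul, inv_one, _root_.mul_one]
      exact ⟨⟨h, rfl⟩, ⟨h, rfl⟩⟩)
    (fun X a => (hiff X _).2 fun X' x h => by
      have ha := (hiff X _).1 ⟨a, rfl⟩ X' x h
      rw [GrpObj.comp_inv, inv_inv]
      exact ⟨ha.2, ha.1⟩)
  letI := hgrp
  refine ⟨N, inferInstance, n, ⟨hhom, inferInstance, hiff⟩, hn, ?_, ?_⟩
  · show LocallyOfFinitePresentation (pullback.fst t.left t'.left ≫ T.hom)
    infer_instance
  · rw [← Over.w n]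
    infer_instance

end Groth.Agent.GenNorm20
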